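/-
Families of injective endomorphisms of a scheme of finite presentation are bijective.
-/
import Groth.Agent.MonoEndo.General
import Mathlib.CategoryTheory.Monoidal.Cartesian.Over

set_option autoImplicit false

universe u

open CategoryTheory CategoryTheory.Limits AlgebraicGeometry MonoidalCategory CartesianMonoidalCategory

namespace Groth.MonoEndo

variable {S : Scheme.{u}}

/-- A family over `T` of endomorphisms of a scheme of finite presentation which is injective on
points is surjective on points. -/
theorem exists_preimage {T X : Over S} [LocallyOfFinitePresentation X.hom] [QuasiCompact X.hom]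
    [QuasiSeparated X.hom] (F : T ⊗ X ⟶ X)
    (hF : ∀ (T' : Over S) (t : T' ⟶ T) (x y : T' ⟶ X), lift t x ≫ F = lift t y ≫ F → x = y)
    (T' : Over S) (t : T' ⟶ T) (y : T' ⟶ X) : ∃ x : T' ⟶ X, lift t x ≫ F = y := by
  let φ : T ⊗ X ⟶ T ⊗ X := lift (fst T X) F
  have hφ : Mono φ := ⟨fun {W} a b hab => by
    have h1 : a ≫ fst T X = b ≫ fst T X := by
      simpa [φ] using congrArg (· ≫ fst T X) hab
    have h2 : a ≫ F = b ≫ F := by simpa [φ] using congrArg (· ≫ snd T X) hab
    refine CartesianMonoidalCategory.hom_ext _ _ h1 (hF W (a ≫ fst T X) _ _ ?_)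
    conv_rhs => rw [h1]
    simpa using h2⟩
  let f : (T ⊗ X).left ⟶ T.left := (fst T X).left
  have hsq : IsPullback (fst T X).left (snd T X).left T.hom X.hom :=
    IsPullback.of_hasPullback T.hom X.hom
  have h1 : LocallyOfFinitePresentation f := MorphismProperty.of_isPullback hsq.flip ‹_›
  have h2 : QuasiCompact f := MorphismProperty.of_isPullback hsq.flip ‹_›
  have h3 : QuasiSeparated f := MorphismProperty.of_isPullback hsq.flip ‹_›
  have h4 : Mono φ.left := inferInstanceAs (Mono ((Over.forget S).map φ))
  have : IsIso φ.left := @isIso_of_mono_endo _ _ f h1 h2 h3 φ.left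
    (congrArg CommaMorphism.left (lift_fst (fst T X) F)) h4
  have : IsIso φ := by
    have : IsIso ((Over.forget S).map φ) := ‹IsIso φ.left›
    exact isIso_of_reflects_iso φ (Over.forget S)
  refine ⟨lift t y ≫ inv φ ≫ snd T X, ?_⟩
  have e : lift t (lift t y ≫ inv φ ≫ snd T X) = lift t y ≫ inv φ := by
    apply CartesianMonoidalCategory.hom_ext
    · rw [lift_fst, Category.assoc, show inv φ ≫ fst T X = fst T X by simp [φ], lift_fst]
    · simp
  rw [e, Category.assoc, show inv φ ≫ F = snd T X by simp [φ], lift_snd]

end Groth.MonoEndo
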