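/-
Orbits of rational points under endomorphisms over algebraic extensions of finite fields are finite.
-/
import Groth.Agent.MonoEndo.General

set_option autoImplicit false

universe u

open CategoryTheory CategoryTheory.Limits AlgebraicGeometry Opposite

namespace Groth.MonoEndo

open Groth.SpectralTopology

theorem pow_pow_eq_of_dvd {k : Type u} [CommRing k] {p n N : ℕ} {x : k} (h : x ^ (p ^ n) = x) (hd : n ∣ N) :
    x ^ (p ^ N) = x := by
  obtain ⟨m, rfl⟩ := hd
  induction m with
  | zero => simp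
  | succ m ih => rw [Nat.mul_succ, pow_add, pow_mul, ih, h]

/-- A morphism from the spectrum of an algebraic extension of `𝔽_p` to a scheme of finite type over `ℤ`
factors through the spectrum of a finite local ring. -/
theorem exists_finite_factor {X : Scheme.{u}} [CompactSpace X] [LocallyOfFiniteType (IsTerminal.from specULiftZIsTerminal X)]
    {p : ℕ} [Fact p.Prime] {k : CommRingCat.{u}} [IsDomain k] [CharP k p]
    (halg : ∀ x : k, ∃ n : ℕ, 0 < n ∧ x ^ (p ^ n) = x) (hk : IsField k) (h : Spec k ⟶ X) :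
    ∃ (A : CommRingCat.{u}) (_ : IsLocalRing A) (_ : Finite A) (π : Spec k ⟶ Spec A) (h' : Spec A ⟶ X),
      π ≫ h' = h := by
  classical
  let := hk.toField
  have : Subsingleton (Spec k) := inferInstanceAs (Subsingleton (PrimeSpectrum k))
  obtain ⟨U, hU, hxU, -⟩ := exists_isAffineOpen_mem_and_subset
    (show h (IsLocalRing.closedPoint k) ∈ (⊤ : X.Opens) from trivial)
  have hr : Set.range h ⊆ Set.range hU.fromSpec := by
    rintro _ ⟨q, rfl⟩
    rw [hU.range_fromSpec, Subsingleton.elim q (IsLocalRing.closedPoint k)]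
    exact hxU
  let φ : Γ(X, U) ⟶ k := Spec.preimage (IsOpenImmersion.lift hU.fromSpec h hr)
  obtain ⟨m, π, hπ⟩ := Algebra.FiniteType.iff_quotient_mvPolynomial''.1 (finiteType_int hU)
  choose n hn0 hn using halg
  let N := ∏ i : Fin m, n (φ.hom (π (MvPolynomial.X i)))
  have hN : 0 < N := Finset.prod_pos fun i _ => hn0 _
  have hfix : ∀ a, (φ.hom a) ^ (p ^ N) = φ.hom a := by
    intro a
    obtain ⟨a, rfl⟩ := hπ a
    exact DFunLike.congr_fun (MvPolynomial.ringHom_ext
      (f := (iterateFrobenius k p N).comp (φ.hom.comp π.toRingHom)) (g := φ.hom.comp π.toRingHom)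
      (fun b => DFunLike.congr_fun (Subsingleton.elim
        (((iterateFrobenius k p N).comp (φ.hom.comp π.toRingHom)).comp MvPolynomial.C)
        ((φ.hom.comp π.toRingHom).comp MvPolynomial.C)) b)
      (fun i => by
        show (φ.hom (π (MvPolynomial.X i))) ^ (p ^ N) = _
        exact pow_pow_eq_of_dvd (hn _) (Finset.dvd_prod_of_mem _ (Finset.mem_univ i)))) a
  have hroots : Set.Finite {x : k | x ^ (p ^ N) = x} := by
    have hq : 1 < p ^ N := Nat.one_lt_pow hN.ne' (Fact.out : p.Prime).one_lt
    have hne : (Polynomial.X ^ (p ^ N) - Polynomial.X : Polynomial k) ≠ 0 :=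
      FiniteField.X_pow_card_sub_X_ne_zero k hq
    refine (Polynomial.finite_setOfPred_isRoot hne).subset fun x hx => ?_
    simpa [Polynomial.IsRoot, sub_eq_zero] using hx
  have : Finite φ.hom.range := (hroots.subset (by rintro _ ⟨a, rfl⟩; exact hfix a)).to_subtype
  let := (Finite.isField_of_domain φ.hom.range).toField
  refine ⟨CommRingCat.of φ.hom.range, inferInstanceAs (IsLocalRing φ.hom.range), inferInstanceAs (Finite φ.hom.range),
    Spec.map (CommRingCat.ofHom φ.hom.range.subtype),
    Spec.map (CommRingCat.ofHom φ.hom.rangeRestrict) ≫ hU.fromSpec, ?_⟩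
  rw [← Category.assoc, ← Spec.map_comp, show CommRingCat.ofHom φ.hom.rangeRestrict ≫
    CommRingCat.ofHom φ.hom.range.subtype = φ from rfl, Spec.map_preimage, IsOpenImmersion.lift_fac]

/-- Over an algebraic extension of `𝔽_p`, the orbit of a rational point under an endomorphism is finite. -/
theorem exists_orbit_eq {p : ℕ} [Fact p.Prime] {k : CommRingCat.{u}} [IsDomain k] [CharP k p]
    (halg : ∀ x : k, ∃ n : ℕ, 0 < n ∧ x ^ (p ^ n) = x) (hk : IsField k) {X : Scheme.{u}} (f : X ⟶ Spec k)
    [LocallyOfFinitePresentation f] [QuasiCompact f] [QuasiSeparated f] (g : X ⟶ X) (hg : g ≫ f = f)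
    (t : ℕ → (Spec k ⟶ X)) (ht : ∀ n, t n ≫ f = 𝟙 _) (hsucc : ∀ n, t (n + 1) = t n ≫ g) :
    ∃ i j, i < j ∧ t i = t j := by
  let c := fgCone k
  let f' : X ⟶ c.pt := f
  have : LocallyOfFinitePresentation f' := ‹LocallyOfFinitePresentation f›
  have : QuasiCompact f' := ‹QuasiCompact f›
  have : QuasiSeparated f' := ‹QuasiSeparated f›
  obtain ⟨i, ⟨M⟩⟩ := exists_stageModel (isLimitFgCone k) f'
  obtain ⟨j, φ, h, hh, hm⟩ := M.exists_hom (isLimitFgCone k) M.hom (g ≫ M.map)
    (by rw [Category.assoc, M.sq.w, ← Category.assoc]; exact congrArg (· ≫ c.π.app i) hg)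
  let N := M.pull φ
  let gj : N.obj ⟶ N.obj := pullback.lift N.hom h hh.symm
  have hNg : N.map ≫ gj = g ≫ N.map := by
    apply pullback.hom_ext
    · rw [Category.assoc, Category.assoc, pullback.lift_fst]
      show N.map ≫ N.hom = g ≫ N.map ≫ N.hom
      rw [N.sq.w, ← Category.assoc]
      exact congrArg (· ≫ c.π.app j) hg.symm
    · rw [Category.assoc, Category.assoc, pullback.lift_snd]
      exact hm.trans (congrArg (g ≫ ·) (M.map_proj φ).symm)
  have : CompactSpace N.obj := QuasiCompact.compactSpace_of_compactSpace N.hom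
  have := locallyOfFiniteType_fgSchemes k j
  have : LocallyOfFiniteType (IsTerminal.from specULiftZIsTerminal N.obj) := by
    rw [specULiftZIsTerminal.hom_ext (IsTerminal.from specULiftZIsTerminal N.obj)
      (N.hom ≫ IsTerminal.from specULiftZIsTerminal ((fgSchemes k).obj j))]
    infer_instance
  obtain ⟨A, hA, hA', π, h₀, hπ⟩ := exists_finite_factor halg hk (t 0 ≫ N.map)
  have := finite_hom (X := N.obj) A
  let s : ℕ → (Spec A ⟶ N.obj) := Nat.rec h₀ fun _ s => s ≫ gj
  have hs : ∀ n, π ≫ s n = t n ≫ N.map := by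
    intro n
    induction n with
    | zero => exact hπ
    | succ n ih =>
      show π ≫ s n ≫ gj = _
      rw [reassoc_of% ih, hNg, hsucc, Category.assoc]
  obtain ⟨a, b, hab, e⟩ := Finite.exists_ne_map_eq_of_infinite s
  have key : t a = t b := N.sq.hom_ext (by rw [← hs, ← hs, e]) ((ht a).trans (ht b).symm)
  rcases Nat.lt_or_gt_of_ne hab with hlt | hlt
  exacts [⟨a, b, hlt, key⟩, ⟨b, a, hlt, key.symm⟩]

end Groth.MonoEndo
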